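import Groth.Prelude.Def_LocRes
import Mathlib

/-!
# Residues of Laurent series
-/

universe u

open LaurentSeries HahnSeries

namespace Groth.Agent.LocResLib

theorem D_single_mul_coe {R : Type u} [CommRing R] (m : ℤ) (u : PowerSeries R) :
    LocRes.D R (single m 1 * (u : R⸨X⸩)) =
      single m 1 * ((PowerSeries.derivative R u : PowerSeries R) : R⸨X⸩) + single (m - 1) (m : R) * (u : R⸨X⸩) := by
  rw [LocRes.D_apply, LocRes.derivative_single_mul, LocRes.derivative_coe, zsmul_eq_mul, mul_one]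

theorem coeff_single_mul_coe {R : Type u} [CommRing R] (m : ℤ) (r : R) (u : PowerSeries R) (n : ℤ) :
    (single m r * (u : R⸨X⸩)).coeff n = r * if n - m < 0 then 0 else PowerSeries.coeff (n - m).natAbs u := by
  rw [HahnSeries.coeff_single_mul, PowerSeries.coeff_coe]

theorem universal_res {R : Type u} [CommRing R] (u : PowerSeries R) (n j : ℕ) (hn : 1 ≤ n) (m : ℤ)
    (hm : m * n = -((j : ℤ) + 1)) :
    (m : R) * PowerSeries.coeff (j + 1) (u ^ n) +
      PowerSeries.coeff j (u ^ (n - 1) * PowerSeries.derivative R u) = 0 := by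
  let φ : MvPolynomial ℕ ℤ →+* R := MvPolynomial.eval₂Hom (Int.castRingHom R) fun i => PowerSeries.coeff i u
  set U : PowerSeries (MvPolynomial ℕ ℤ) := PowerSeries.mk fun i => MvPolynomial.X i
  have hU : PowerSeries.map φ U = u := by
    ext i; simp [U, φ]
  have hD : PowerSeries.map φ (PowerSeries.derivative _ U) = PowerSeries.derivative R u := by
    ext i
    rw [PowerSeries.coeff_map, PowerSeries.coeff_derivative, PowerSeries.coeff_derivative, map_mul, map_add, map_natCast,
      map_one, ← hU, PowerSeries.coeff_map]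
  have key : (m : MvPolynomial ℕ ℤ) * PowerSeries.coeff (j + 1) (U ^ n) +
      PowerSeries.coeff j (U ^ (n - 1) * PowerSeries.derivative _ U) = 0 := by
    have h1 : PowerSeries.derivative _ (U ^ n) = (n : MvPolynomial ℕ ℤ) • (U ^ (n - 1) * PowerSeries.derivative _ U) := by
      rw [Derivation.leibniz_pow, smul_eq_mul, Algebra.smul_def, map_natCast, nsmul_eq_mul]
    have h2 := congrArg (PowerSeries.coeff j) h1
    rw [PowerSeries.coeff_derivative, LinearMap.map_smul, smul_eq_mul] at h2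
    have h3 : (n : MvPolynomial ℕ ℤ) ≠ 0 := Nat.cast_ne_zero.mpr (by omega)
    apply mul_left_cancel₀ h3
    have hm' : (m : MvPolynomial ℕ ℤ) * n = -((j : MvPolynomial ℕ ℤ) + 1) := by exact_mod_cast congrArg (Int.cast (R := MvPolynomial ℕ ℤ)) hm
    linear_combination (PowerSeries.coeff (j + 1) (U ^ n)) * hm' - h2
  have h := congrArg φ key
  rw [map_add, map_mul, map_intCast, map_zero, ← PowerSeries.coeff_map, ← PowerSeries.coeff_map,
    map_pow (PowerSeries.map φ), map_mul (PowerSeries.map φ), map_pow (PowerSeries.map φ), hD, hU] at h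
  exact h

theorem res_pow_mul_D {F : Type u} [Field F] (g : F⸨X⸩) (n : ℕ) (hn : 1 ≤ n) :
    LocRes.res F (g ^ (n - 1) * LocRes.D F g) = 0 := by
  obtain ⟨m, u, rfl⟩ : ∃ (m : ℤ) (u : PowerSeries F), g = single m 1 * (u : F⸨X⸩) :=
    ⟨_, _, g.single_order_mul_powerSeriesPart.symm⟩
  obtain ⟨k, rfl⟩ : ∃ k, n = k + 1 := ⟨n - 1, by omega⟩
  have he : (single m 1 * (u : F⸨X⸩)) ^ k * LocRes.D F (single m 1 * (u : F⸨X⸩)) =
      single (((k + 1 : ℕ) : ℤ) * m) 1 * ((u ^ k * PowerSeries.derivative F u : PowerSeries F) : F⸨X⸩) +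
      single (((k + 1 : ℕ) : ℤ) * m - 1) (m : F) * ((u ^ (k + 1) : PowerSeries F) : F⸨X⸩) := by
    rw [D_single_mul_coe, mul_pow, HahnSeries.single_pow, one_pow, PowerSeries.coe_mul, PowerSeries.coe_pow,
      PowerSeries.coe_pow]
    have h1 : single (((k + 1 : ℕ) : ℤ) * m) (1 : F) = single (k • m) 1 * single m 1 := by
      rw [single_mul_single, one_mul]; congr 1; simp; ring
    have h2 : single (((k + 1 : ℕ) : ℤ) * m - 1) (m : F) = single (k • m) 1 * single (m - 1) (m : F) := by
      rw [single_mul_single, one_mul]; congr 1; simp; ring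
    rw [h1, h2, pow_succ]; ring
  rw [Nat.add_sub_cancel, he, LocRes.res_apply, HahnSeries.coeff_add, coeff_single_mul_coe, coeff_single_mul_coe, one_mul]
  rcases le_or_gt 0 (((k + 1 : ℕ) : ℤ) * m) with h | h
  · rw [if_pos (by omega)]
    rcases eq_or_lt_of_le h with h0 | h0
    · have hm : m = 0 := by
        rcases mul_eq_zero.mp h0.symm with h' | h'
        · omega
        · exact h'
      simp [hm]
    · rw [if_pos (by omega)]; simp
  · obtain ⟨j, hj⟩ : ∃ j : ℕ, -(((k + 1 : ℕ) : ℤ) * m) = (j : ℤ) + 1 :=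
      ⟨(-(((k + 1 : ℕ) : ℤ) * m) - 1).toNat, by omega⟩
    rw [if_neg (by omega), if_neg (by omega), show (-1 - ((k + 1 : ℕ) : ℤ) * m).natAbs = j by omega,
      show (-1 - (((k + 1 : ℕ) : ℤ) * m - 1)).natAbs = j + 1 by omega, add_comm]
    have := universal_res u (k + 1) j hn m (by rw [mul_comm]; omega)
    rwa [Nat.add_sub_cancel] at this

theorem res_zpow_mul_D {F : Type u} [Field F] (g : F⸨X⸩) (n : ℤ) (hn : n ≠ 0) :
    LocRes.res F (g ^ (n - 1) * LocRes.D F g) = 0 := by
  rcases eq_or_ne g 0 with rfl | hg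
  · simp
  rcases lt_or_gt_of_ne hn with h | h
  · have hD : LocRes.D F g⁻¹ = -(g⁻¹ ^ 2 * LocRes.D F g) := by
      have h1 := (LocRes.D F).leibniz g g⁻¹
      rw [mul_inv_cancel₀ hg, Derivation.map_one_eq_zero, smul_eq_mul, smul_eq_mul] at h1
      linear_combination (g⁻¹ : F⸨X⸩) * (-h1) - (LocRes.D F g⁻¹) * mul_inv_cancel₀ hg
    obtain ⟨N, rfl⟩ : ∃ N : ℕ, n = -((N : ℤ) + 1) := ⟨(-n - 1).toNat, by omega⟩
    have := res_pow_mul_D g⁻¹ (N + 1) (by omega)
    rw [Nat.add_sub_cancel, hD, mul_neg, map_neg, neg_eq_zero, ← mul_assoc, ← _root_.pow_add, inv_pow] at this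
    rwa [show -((N : ℤ) + 1) - 1 = -((N + 2 : ℕ) : ℤ) by push_cast; ring, zpow_neg, zpow_natCast]
  · obtain ⟨N, rfl⟩ : ∃ N : ℕ, n = (N : ℤ) + 1 := ⟨(n - 1).toNat, by omega⟩
    have := res_pow_mul_D g (N + 1) (by omega)
    rw [add_sub_cancel_right, zpow_natCast]
    simpa using this

theorem valued_coe_le_one {F : Type u} [Field F] (u : PowerSeries F) :
    Valued.v (u : F⸨X⸩) ≤ (1 : WithZero (Multiplicative ℤ)) :=
  (LaurentSeries.val_le_one_iff_eq_coe F _).mpr ⟨u, rfl⟩

theorem res_inv_mul_D {F : Type u} [Field F] {g : F⸨X⸩} (hg : g ≠ 0) :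
    LocRes.res F (g⁻¹ * LocRes.D F g) = ((g.order : ℤ) : F) ∧ Valued.v g = WithZero.exp (-g.order) := by
  set m := g.order
  set u := g.powerSeriesPart
  have hgm : g = single m 1 * (u : F⸨X⸩) := g.single_order_mul_powerSeriesPart.symm
  have hu0 : PowerSeries.constantCoeff u ≠ 0 := by
    rw [← PowerSeries.coeff_zero_eq_constantCoeff_apply, LaurentSeries.powerSeriesPart_coeff, Nat.cast_zero, add_zero]
    exact fun h => hg (HahnSeries.coeff_order_eq_zero.mp h)
  have hu : (u : F⸨X⸩) * ((u⁻¹ : PowerSeries F) : F⸨X⸩) = 1 := by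
    rw [← PowerSeries.coe_mul, PowerSeries.mul_inv_cancel u hu0, PowerSeries.coe_one]
  have hinv : g⁻¹ = single (-m) 1 * ((u⁻¹ : PowerSeries F) : F⸨X⸩) := by
    refine inv_eq_of_mul_eq_one_right ?_
    rw [hgm, mul_mul_mul_comm, hu, single_mul_single, add_neg_cancel, one_mul, mul_one]
    rfl
  constructor
  · have he : g⁻¹ * LocRes.D F g = single 0 1 * ((u⁻¹ * PowerSeries.derivative F u : PowerSeries F) : F⸨X⸩) +
        single (-1) (m : F) * ((u * u⁻¹ : PowerSeries F) : F⸨X⸩) := by
      rw [hinv, show LocRes.D F g = _ from (congrArg _ hgm).trans (D_single_mul_coe m u), mul_add, mul_mul_mul_comm,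
        mul_mul_mul_comm (single (-m) 1) _ (single (m - 1) _), single_mul_single, single_mul_single, one_mul, one_mul,
        ← PowerSeries.coe_mul, ← PowerSeries.coe_mul, neg_add_cancel, show -m + (m - 1) = -1 by ring, mul_comm u]
    rw [he, LocRes.res_apply, HahnSeries.coeff_add, coeff_single_mul_coe, coeff_single_mul_coe,
      PowerSeries.mul_inv_cancel u hu0]
    simp
  · have h1 := valued_coe_le_one u
    have h2 := valued_coe_le_one u⁻¹
    have h3 := congrArg (Valued.v (R := F⸨X⸩)) hu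
    rw [map_mul, map_one] at h3
    have h4 : Valued.v (u : F⸨X⸩) = (1 : WithZero (Multiplicative ℤ)) := by
      refine le_antisymm h1 ?_
      calc (1 : WithZero (Multiplicative ℤ)) = Valued.v (u : F⸨X⸩) * Valued.v ((u⁻¹ : PowerSeries F) : F⸨X⸩) := h3.symm
        _ ≤ Valued.v (u : F⸨X⸩) * 1 := mul_le_mul_right h2 _
        _ = _ := mul_one _
    conv_lhs => rw [hgm]
    rw [map_mul, h4, mul_one, LaurentSeries.valuation_single_zpow]

theorem D_ker_range {k : Type u} [Field k] [CharZero k] :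
    (∀ f : k⸨X⸩, LocRes.D k f = 0 ↔ f = HahnSeries.C (f.coeff 0)) ∧
      ∀ g : k⸨X⸩, (∃ f : k⸨X⸩, LocRes.D k f = g) ↔ LocRes.res k g = 0 := by
  constructor
  · intro f
    constructor
    · intro h
      ext n
      rcases eq_or_ne n 0 with rfl | hn
      · simp [HahnSeries.C_apply]
      · rw [HahnSeries.C_apply, HahnSeries.coeff_single_of_ne hn]
        have h2 := congrArg (fun x : k⸨X⸩ => x.coeff (n - 1)) h
        simp only [LocRes.D_coeff, HahnSeries.coeff_zero, sub_add_cancel, smul_eq_zero] at h2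
        exact h2.resolve_left hn
    · intro h
      rw [h, LocRes.D_apply, LocRes.derivative_C]
  · intro g
    refine ⟨?_, fun h => ?_⟩
    · rintro ⟨f, rfl⟩
      simp [LocRes.D_coeff]
    · have h0 : g.coeff (-1) = 0 := h
      have hbdd : BddBelow (Function.support fun n : ℤ => g.coeff (n - 1) / (n : k)) := by
        refine ⟨g.order + 1, fun n hn => ?_⟩
        by_contra hlt
        apply hn
        simp only [HahnSeries.coeff_eq_zero_of_lt_order (show n - 1 < g.order by omega), zero_div]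
      refine ⟨HahnSeries.ofSuppBddBelow (fun n : ℤ => g.coeff (n - 1) / (n : k)) hbdd, ?_⟩
      ext n
      rw [LocRes.D_coeff]
      change (n + 1) • (g.coeff (n + 1 - 1) / ((n + 1 : ℤ) : k)) = _
      rw [add_sub_cancel_right, zsmul_eq_mul]
      rcases eq_or_ne (n + 1) 0 with hn | hn
      · rw [hn, Int.cast_zero, zero_mul, show n = -1 by omega, h0]
      · rw [mul_div_cancel₀]
        exact_mod_cast hn

end Groth.Agent.LocResLib
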